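import Mathlib

/-!
# Simultaneous diagonalisation of commuting semisimple matrices
-/

set_option autoImplicit false

universe u v

noncomputable section

open Matrix

namespace Groth.Agent.H20Semi

variable {K : Type u} [Field K] [IsAlgClosed K] {N : ℕ}

/-- Commuting semisimple matrices have a common eigenbasis. -/
theorem exists_simdiag {ι : Type v} (S : ι → Matrix (Fin N) (Fin N) K) (hcomm : ∀ i j, Commute (S i) (S j))
    (hss : ∀ i, Module.End.IsSemisimple (Matrix.toLinAlgEquiv' (S i))) :
    ∃ P : (Matrix (Fin N) (Fin N) K)ˣ, ∃ d : ι → Fin N → K, ∀ i,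
      S i = (P : Matrix (Fin N) (Fin N) K) * Matrix.diagonal (d i) * ((P⁻¹ : (Matrix (Fin N) (Fin N) K)ˣ) : Matrix (Fin N) (Fin N) K) := by
  classical
  let f : ι → Module.End K (Fin N → K) := fun i => Matrix.toLinAlgEquiv' (S i)
  have hc : Pairwise fun i j => Commute (f i) (f j) := fun i j _ => (hcomm i j).map Matrix.toLinAlgEquiv'
  have htop := Module.End.iSup_iInf_maxGenEigenspace_eq_top_of_iSup_maxGenEigenspace_eq_top_of_commute f hc
    fun i => Module.End.iSup_maxGenEigenspace_eq_top (f i)
  have hind := Module.End.independent_iInf_maxGenEigenspace_of_forall_mapsTo f fun i j φ =>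
    Module.End.mapsTo_maxGenEigenspace_of_comm ((hcomm j i).map Matrix.toLinAlgEquiv') φ
  have hint := DirectSum.isInternal_submodule_of_iSupIndep_of_iSup_eq_top hind htop
  let B := hint.collectedBasis fun χ => Module.finBasis K (⨅ i, (f i).maxGenEigenspace (χ i) : Submodule K (Fin N → K))
  let e := B.indexEquiv (Pi.basisFun K (Fin N))
  let B' := B.reindex e
  let χ : Fin N → ι → K := fun a => (e.symm a).1
  have heig : ∀ a i, f i (B' a) = χ a i • B' a := fun a i => by
    rw [show B' a = B (e.symm a) from B.reindex_apply e a]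
    have hmem := hint.collectedBasis_mem
      (fun χ => Module.finBasis K (⨅ i, (f i).maxGenEigenspace (χ i) : Submodule K (Fin N → K))) (e.symm a)
    have h1 := (Submodule.mem_iInf _).1 hmem i
    rw [(hss i).isFinitelySemisimple.maxGenEigenspace_eq_eigenspace] at h1
    exact Module.End.mem_eigenspace_iff.1 h1
  let P : (Matrix (Fin N) (Fin N) K)ˣ :=
    { val := (Pi.basisFun K (Fin N)).toMatrix B'
      inv := B'.toMatrix (Pi.basisFun K (Fin N))
      val_inv := (Pi.basisFun K (Fin N)).toMatrix_mul_toMatrix_flip B'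
      inv_val := B'.toMatrix_mul_toMatrix_flip (Pi.basisFun K (Fin N)) }
  refine ⟨P, fun i a => χ a i, fun i => ?_⟩
  rw [← Units.mul_inv_eq_iff_eq_mul, inv_inv]
  ext a b
  have h2 := congrFun (heig b i) a
  simp only [f, Matrix.toLinAlgEquiv'_apply, Pi.smul_apply, smul_eq_mul] at h2
  simp only [Matrix.mul_apply, Matrix.diagonal_apply, mul_ite, mul_zero, Finset.sum_ite_eq', Finset.mem_univ, if_true,
    P, Module.Basis.toMatrix_apply, Pi.basisFun_repr]
  rw [mul_comm]
  exact h2

end Groth.Agent.H20Semi
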