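import Groth.Agent.H20Semi.ExpPoly
import Groth.Agent.H20Semi.SimDiag
import Groth.Agent.H20Conj.Main
import Groth.Agent.H20Conj.Bound

/-!
# Closed subgroups of `GL_N` with separating multiplicative functions

If multiplicative functions separate the points of a closed subgroup, it consists of commuting semisimple
elements, and it contains a one-parameter subgroup as soon as it is infinite.
-/

set_option autoImplicit false

universe u

noncomputable section

open Matrix H20Conj

namespace Groth.Agent.H20Semi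

variable {K : Type u} [Field K] [IsAlgClosed K] [CharZero K] {N : ℕ}

/-- Polynomial expressions on `P diag(μ ^ a) (1 + D) ^ b P⁻¹`: a Jordan curve through the powers of a matrix. -/
theorem exists_curve (P : GLk K N) (μ : Fin N → Kˣ) (D : Mat K N) (hD : D ^ N = 0) (p : EPoly K N) :
    ∃ x : EP K, ∀ a b, evAB a b x = MvPolynomial.aeval (fun ij : Fin N × Fin N =>
      ((P : Mat K N) * Matrix.diagonal (fun i => (μ i : K) ^ a) * (1 + D) ^ b * ((P⁻¹ : GLk K N) : Mat K N)) ij.1 ij.2) p := by
  let ch : ℕ → EP K := fun j =>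
    MonoidAlgebra.single 1 (Polynomial.C ((j.factorial : K)⁻¹) * descPochhammer K j)
  let M : Matrix (Fin N) (Fin N) (EP K) :=
    (P : Mat K N).map (algebraMap K (EP K)) * Matrix.diagonal (fun i => MonoidAlgebra.single (μ i) 1) *
      (∑ j ∈ Finset.range N, ch j • (D ^ j).map (algebraMap K (EP K))) *
      ((P⁻¹ : GLk K N) : Mat K N).map (algebraMap K (EP K))
  refine ⟨MvPolynomial.aeval (fun ij : Fin N × Fin N => M ij.1 ij.2) p, fun a b => ?_⟩
  rw [← AlgHom.comp_apply, MvPolynomial.comp_aeval]
  refine congrArg (fun g => MvPolynomial.aeval g p) (funext fun ij => ?_)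
  have hc : ∀ j, evAB a b (ch j) = (b.choose j : K) := fun j => by
    rw [evAB_single, Nat.cast_choose_eq_descPochhammer_div, Polynomial.eval_mul, Polynomial.eval_C]
    simp [div_eq_inv_mul]
  have h : (evAB a b).mapMatrix M =
      (P : Mat K N) * Matrix.diagonal (fun i => (μ i : K) ^ a) * (1 + D) ^ b * ((P⁻¹ : GLk K N) : Mat K N) := by
    have hcm : ∀ A : Mat K N, (evAB a b).mapMatrix (A.map (algebraMap K (EP K))) = A := fun A => by
      ext i j
      simp only [AlgHom.mapMatrix_apply, Matrix.map_apply, AlgHom.commutes]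
      rfl
    have hd : (evAB a b).mapMatrix (Matrix.diagonal fun i => MonoidAlgebra.single (μ i) (1 : Polynomial K)) =
        Matrix.diagonal (fun i => (μ i : K) ^ a) := by
      ext i j
      rcases eq_or_ne i j with rfl | hij
      · simp [evAB_single]
      · simp [Matrix.diagonal_apply_ne _ hij]
    rw [map_mul, map_mul, map_mul, hcm, hcm, hd, map_sum, pow_eq_sum_choose hD]
    congr 2
    refine Finset.sum_congr rfl fun j _ => ?_
    rw [← hc]
    ext i l
    simp only [AlgHom.mapMatrix_apply, Matrix.map_apply, Matrix.smul_apply, smul_eq_mul, map_mul, AlgHom.commutes]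
    rfl
  exact congrFun (congrFun h ij.1) ij.2

/-- The Jordan decomposition of an invertible matrix, through an eigenbasis of its semisimple part. -/
theorem exists_jordan (g : GLk K N) :
    ∃ (P : GLk K N) (μ : Fin N → Kˣ) (D : Mat K N), D ^ N = 0 ∧
      (∀ m : ℕ, ((g ^ m : GLk K N) : Mat K N) =
        (P : Mat K N) * Matrix.diagonal (fun i => (μ i : K) ^ m) * (1 + D) ^ m * ((P⁻¹ : GLk K N) : Mat K N)) := by
  classical
  let f : Module.End K (Vec K N) := Matrix.toLinAlgEquiv' (g : Mat K N)
  obtain ⟨n, hn, s, hs, hnil, hss, hf⟩ := f.exists_isNilpotent_isSemisimple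
  have hns : Commute n s := Algebra.commute_of_mem_adjoin_singleton_of_commute hs
    ((Algebra.commute_of_mem_adjoin_singleton_of_commute hn (Commute.refl f)).symm)
  let A : Mat K N := Matrix.toLinAlgEquiv'.symm n
  let B : Mat K N := Matrix.toLinAlgEquiv'.symm s
  have hgAB : (g : Mat K N) = A + B := by
    rw [show A + B = Matrix.toLinAlgEquiv'.symm (n + s) from (map_add _ _ _).symm, ← hf]
    exact (AlgEquiv.symm_apply_apply _ _).symm
  have hAB : Commute A B := hns.map Matrix.toLinAlgEquiv'.symm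
  have hBu : IsUnit B := by
    have h := ((hnil.map Matrix.toLinAlgEquiv'.symm).neg).isUnit_add_left_of_commute g.isUnit
      (by rw [hgAB]; exact ((Commute.refl A).add_right hAB).neg_left)
    rwa [show (g : Mat K N) + -A = B by rw [hgAB]; abel] at h
  obtain ⟨P, d, hd⟩ := exists_simdiag (fun _ : Unit => B) (fun _ _ => Commute.refl B) fun _ => by
    simpa [B] using hss
  have hB := hd ()
  have hd0 : ∀ i, d () i ≠ 0 := by
    have h1 : IsUnit (Matrix.diagonal (d ())) := by
      have : Matrix.diagonal (d ()) = ((P⁻¹ : GLk K N) : Mat K N) * B * (P : Mat K N) := by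
        rw [hB]; simp [mul_assoc]
      rw [this]
      exact ((P⁻¹).isUnit.mul hBu).mul P.isUnit
    rw [Matrix.isUnit_diagonal, Pi.isUnit_iff] at h1
    exact fun i => (h1 i).ne_zero
  let μ : Fin N → Kˣ := fun i => Units.mk0 _ (hd0 i)
  let Δ : Mat K N := Matrix.diagonal fun i => (μ i : K)
  let Δ' : Mat K N := Matrix.diagonal fun i => ((μ i)⁻¹ : Kˣ)
  let A' : Mat K N := ((P⁻¹ : GLk K N) : Mat K N) * A * (P : Mat K N)
  have hcA : Commute Δ A' := by
    have h1 : Commute (((P⁻¹ : GLk K N) : Mat K N) * B * (P : Mat K N)) A' := by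
      show _ * _ = _ * _
      simp only [A', mul_assoc]
      rw [Units.mul_inv_cancel_left, Units.mul_inv_cancel_left, ← mul_assoc B, ← mul_assoc A, hAB.eq]
    rwa [show ((P⁻¹ : GLk K N) : Mat K N) * B * (P : Mat K N) = Δ by rw [hB]; simp [mul_assoc, Δ, μ]] at h1
  have hΔ : Δ * Δ' = 1 := by simp [Δ, Δ', Matrix.diagonal_mul_diagonal]
  have hΔ' : Δ' * Δ = 1 := by simp [Δ, Δ', Matrix.diagonal_mul_diagonal]
  have hcA' : Commute Δ' A' := by
    show Δ' * A' = A' * Δ'
    calc Δ' * A' = Δ' * A' * (Δ * Δ') := by rw [hΔ, mul_one]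
      _ = Δ' * (A' * Δ) * Δ' := by simp only [mul_assoc]
      _ = _ := by rw [← hcA.eq, ← mul_assoc Δ', hΔ', one_mul]
  have hDnil : IsNilpotent (Δ' * A') := by
    obtain ⟨m, hm⟩ := hnil.map Matrix.toLinAlgEquiv'.symm
    refine Commute.isNilpotent_mul_left hcA' ⟨m, ?_⟩
    show (((P⁻¹ : GLk K N) : Mat K N) * A * (P : Mat K N)) ^ m = 0
    rw [Units.conj_pow', hm]
    simp
  refine ⟨P, μ, Δ' * A', ?_, fun m => ?_⟩
  · have h := Matrix.aeval_self_charpoly (Δ' * A')
    rw [sub_eq_zero.1 (Matrix.isNilpotent_charpoly_sub_pow_of_isNilpotent hDnil).eq_zero, map_pow,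
      Polynomial.aeval_X, Fintype.card_fin] at h
    exact h
  · have hc : Commute Δ (1 + Δ' * A') := (Commute.one_right _).add_right
      ((show Commute Δ Δ' from hΔ.trans hΔ'.symm).mul_right hcA)
    have hg : (g : Mat K N) = (P : Mat K N) * (Δ * (1 + Δ' * A')) * ((P⁻¹ : GLk K N) : Mat K N) := by
      rw [mul_add, mul_one, ← mul_assoc Δ, hΔ, one_mul, mul_add, add_mul, show Δ = Matrix.diagonal (d ()) from rfl,
        ← hB, hgAB]
      simp [A', mul_assoc, add_comm]
    rw [Units.val_pow_eq_pow_val, hg, Units.conj_pow, hc.mul_pow, ← mul_assoc]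
    simp [Δ, Matrix.diagonal_pow]
    rfl

variable {H : Subgroup (GLk K N)} (hH : IsZClosed (H : Set (GLk K N))) (X : Set (EPoly K N))
  (hmul : ∀ p ∈ X, ∀ a ∈ H, ∀ b ∈ H, evM (a * b) p = evM a p * evM b p)
  (h1 : ∀ p ∈ X, evM (1 : GLk K N) p = 1)
  (hsep : ∀ u ∈ H, (∀ p ∈ X, evM u p = 1) → u = 1)

include hmul h1 hsep in
theorem commute_of_separated {a b : GLk K N} (ha : a ∈ H) (hb : b ∈ H) : Commute a b := by
  have hval : ∀ p ∈ X, ∀ x ∈ H, evM x p * evM x⁻¹ p = 1 := fun p hp x hx => by
    rw [← hmul p hp x hx _ (H.inv_mem hx), mul_inv_cancel, h1 p hp]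
  have h := hsep (a * b * a⁻¹ * b⁻¹) (H.mul_mem (H.mul_mem (H.mul_mem ha hb) (H.inv_mem ha)) (H.inv_mem hb))
    fun p hp => by
      rw [hmul p hp _ (H.mul_mem (H.mul_mem ha hb) (H.inv_mem ha)) _ (H.inv_mem hb),
        hmul p hp _ (H.mul_mem ha hb) _ (H.inv_mem ha), hmul p hp _ ha _ hb]
      linear_combination (evM a p * evM a⁻¹ p) * hval p hp b hb + hval p hp a ha
  rw [mul_inv_eq_one, mul_inv_eq_iff_eq_mul] at h
  exact h

include hH hmul h1 hsep in
theorem isSemisimple_of_separated {g : GLk K N} (hg : g ∈ H) :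
    Module.End.IsSemisimple (Matrix.toLinAlgEquiv' (g : Mat K N)) := by
  classical
  obtain ⟨P, μ, D, hD, hpow⟩ := exists_jordan g
  have hu : IsUnit (1 + D) := (IsNilpotent.isUnit_one_add ⟨N, hD⟩)
  let u : GLk K N := P * hu.unit * P⁻¹
  have huev : ∀ p, evM u p = MvPolynomial.aeval (fun ij : Fin N × Fin N =>
      ((P : Mat K N) * Matrix.diagonal (fun i => (μ i : K) ^ 0) * ((1 : Mat K N) + D) ^ 1 * ((P⁻¹ : GLk K N) : Mat K N) : Mat K N) ij.1 ij.2) p :=
    fun p => by
      simp [evM, u]
  have hgev : ∀ p m, evM (g ^ m) p = MvPolynomial.aeval (fun ij : Fin N × Fin N =>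
      ((P : Mat K N) * Matrix.diagonal (fun i => (μ i : K) ^ m) * (1 + D) ^ m * ((P⁻¹ : GLk K N) : Mat K N)) ij.1 ij.2) p :=
    fun p m => by rw [evM, hpow]
  have huH : u ∈ H := hH u fun p hp => by
    obtain ⟨x, hx⟩ := exists_curve P μ D hD p
    rw [huev, ← hx, evAB_eq_of_diag (y := 0) (fun m => ?_), map_zero]
    rw [hx, ← hgev, map_zero]
    exact mem_vIdeal.1 hp _ (H.pow_mem hg m)
  have hu1 : u = 1 := hsep u huH fun p hp => by
    obtain ⟨x, hx⟩ := exists_curve P μ D hD p
    have hne : evM g p ≠ 0 := fun h0 => by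
      have h := hmul p hp g hg _ (H.inv_mem hg)
      rw [mul_inv_cancel, h1 p hp, h0, zero_mul] at h
      exact one_ne_zero h
    have hpm : ∀ m, evM (g ^ m) p = evM g p ^ m := fun m => by
      induction m with
      | zero => simpa using h1 p hp
      | succ m ih => rw [pow_succ, hmul p hp _ (H.pow_mem hg m) _ hg, ih, pow_succ]
    rw [huev, ← hx, evAB_eq_of_diag (y := MonoidAlgebra.single (Units.mk0 _ hne) 1) (fun m => ?_), evAB_single]
    · simp
    · rw [hx, ← hgev, hpm, evAB_single]
      simp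
  have hD0 : (1 : Mat K N) + D = 1 := by
    have h := congrArg (fun w : GLk K N => (w : Mat K N)) (show (hu.unit : GLk K N) = 1 by
      simpa [u, mul_inv_eq_one, mul_inv_eq_iff_eq_mul] using hu1)
    simpa using h
  have hg1 := hpow 1
  rw [pow_one, pow_one, hD0, mul_one] at hg1
  -- diagonalisable endomorphisms are semisimple
  refine Module.End.isSemisimple_of_squarefree_aeval_eq_zero (p := ∏ c ∈ Finset.univ.image (fun i => (μ i : K)),
    (Polynomial.X - Polynomial.C c)) (Polynomial.separable_prod_X_sub_C_iff'.2 fun a _ b _ e => e).squarefree ?_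
  rw [Polynomial.aeval_algHom_apply, hg1, map_eq_zero_iff _ (AlgEquiv.injective _)]
  let cj : Mat K N →ₐ[K] Mat K N :=
    { toFun := fun M => (P : Mat K N) * M * ((P⁻¹ : GLk K N) : Mat K N)
      map_one' := by simp
      map_mul' := fun A B => by simp [mul_assoc]
      map_zero' := by simp
      map_add' := fun A B => by rw [mul_add, add_mul]
      commutes' := fun c => by
        rw [Algebra.commutes c (P : Mat K N) |>.symm, mul_assoc, Units.mul_inv, mul_one] }
  rw [show (P : Mat K N) * Matrix.diagonal (fun i => (μ i : K) ^ 1) * ((P⁻¹ : GLk K N) : Mat K N) =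
    cj (Matrix.diagonalAlgHom K fun i => (μ i : K)) by simp [cj], Polynomial.aeval_algHom_apply,
    Polynomial.aeval_algHom_apply]
  have h0 : Polynomial.aeval (fun i => (μ i : K))
      (∏ c ∈ Finset.univ.image (fun i => (μ i : K)), (Polynomial.X - Polynomial.C c)) = 0 := by
    funext i
    rw [Polynomial.aeval_pi_apply]
    beta_reduce
    rw [map_prod, Pi.zero_apply]
    exact Finset.prod_eq_zero (Finset.mem_image_of_mem _ (Finset.mem_univ i)) (by simp)
  rw [h0, map_zero, map_zero]

include hH hmul h1 hsep in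
/-- An infinite closed subgroup with separating multiplicative functions contains a one-parameter subgroup. -/
theorem exists_cochar (hinf : (H : Set (GLk K N)).Infinite) :
    ∃ f : Kˣ →* GLk K N, IsLaurent f ∧ (∀ t, f t ∈ H) ∧ (f '' goodRoots K).Infinite := by
  classical
  obtain ⟨P, d, hd⟩ := exists_simdiag (fun g : H => ((g : GLk K N) : Mat K N))
    (fun a b => (commute_of_separated X hmul h1 hsep a.2 b.2).map (Units.coeHom _))
    fun g => isSemisimple_of_separated hH X hmul h1 hsep g.2
  have hdg : ∀ g : H, Matrix.diagonal (d g) = ((P⁻¹ : GLk K N) : Mat K N) * ((g : GLk K N) : Mat K N) * (P : Mat K N) := fun g => by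
    rw [hd g]; simp [mul_assoc]
  -- the diagonal characters
  let χ : Fin N → (H →* K) := fun i =>
    { toFun := fun g => d g i
      map_one' := by
        have h := congrFun (congrFun (hdg 1) i) i
        simpa [mul_assoc] using h
      map_mul' := fun a b => by
        have h : Matrix.diagonal (d (a * b)) = Matrix.diagonal (fun i => d a i * d b i) := by
          rw [← Matrix.diagonal_mul_diagonal, hdg, hdg, hdg]
          simp [mul_assoc]
        simpa using congrFun (congrFun h i) i }
  have hgrp : ∀ i (g : H), χ i g * χ i g⁻¹ = 1 := fun i g => by rw [← map_mul, mul_inv_cancel, map_one]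
  let χu : Fin N → (H →* Kˣ) := fun i => (χ i).toHomUnits
  -- the relations
  let Λ : AddSubgroup (Fin N → ℤ) :=
    { carrier := {n | ∀ g : H, ∏ i, χu i g ^ n i = 1}
      zero_mem' := fun g => by simp
      add_mem' := fun {a b} ha hb g => by simp [_root_.zpow_add, Finset.prod_mul_distrib, ha g, hb g]
      neg_mem' := fun {a} ha g => by simp [Finset.prod_inv_distrib, ha g] }
  obtain ⟨ν, hν, hνΛ⟩ : ∃ ν : Fin N → ℤ, ν ≠ 0 ∧ ∀ n ∈ Λ, ∑ i, n i * ν i = 0 := by
    let W : Submodule ℚ (Fin N → ℚ) := Submodule.span ℚ ((fun (n : Fin N → ℤ) i => (n i : ℚ)) '' (Λ : Set (Fin N → ℤ)))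
    by_cases hW : W = ⊤
    · exfalso
      have hmem : ∀ y ∈ W, ∃ m : ℕ, 0 < m ∧ ∃ n ∈ Λ, (m : ℚ) • y = fun i => (n i : ℚ) := by
        intro y hy
        induction hy using Submodule.span_induction with
        | mem x hx => obtain ⟨n, hn, rfl⟩ := hx; exact ⟨1, one_pos, n, hn, by simp⟩
        | zero => exact ⟨1, one_pos, 0, Λ.zero_mem, by ext; simp⟩
        | add x y _ _ hx hy =>
          obtain ⟨a, ha, n, hn, hx⟩ := hx
          obtain ⟨b, hb, n', hn', hy⟩ := hy
          refine ⟨a * b, mul_pos ha hb, b • n + a • n', Λ.add_mem (Λ.nsmul_mem hn b) (Λ.nsmul_mem hn' a),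
            funext fun i => ?_⟩
          have e1 := congrFun hx i
          have e2 := congrFun hy i
          simp only [Pi.smul_apply, Pi.add_apply, smul_eq_mul, nsmul_eq_mul, Int.cast_add, Int.cast_mul,
            Int.cast_natCast, Nat.cast_mul, Pi.mul_apply, Pi.natCast_apply, ← e1, ← e2]
          ring
        | smul c x _ hx =>
          obtain ⟨a, ha, n, hn, hx⟩ := hx
          refine ⟨a * c.den, mul_pos ha c.den_pos, c.num • n, Λ.zsmul_mem hn _, funext fun i => ?_⟩
          have e1 := congrFun hx i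
          simp only [Pi.smul_apply, smul_eq_mul, Int.cast_mul, Nat.cast_mul, zsmul_eq_mul, ← e1]
          rw [← Rat.mul_den_eq_num c]
          ring
      choose m hm n hn hmn using fun i => hmem (Pi.single i (1 : ℚ)) (hW ▸ Submodule.mem_top)
      have hfin : ∀ i, ∀ g : H, χu i g ^ m i = 1 := fun i g => by
        have hni : ∀ j, n i j = if j = i then (m i : ℤ) else 0 := fun j => by
          have h : ((m i : ℕ) : ℚ) * (Pi.single i (1 : ℚ) : Fin N → ℚ) j = ((n i j : ℤ) : ℚ) := congrFun (hmn i) j
          rcases eq_or_ne j i with rfl | hji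
          · rw [Pi.single_eq_same, mul_one] at h; rw [if_pos rfl]; exact_mod_cast h.symm
          · rw [Pi.single_eq_of_ne hji, mul_zero] at h; rw [if_neg hji]; exact_mod_cast h.symm
        have h := hn i g
        rw [Finset.prod_eq_single i (fun j _ hji => by rw [hni, if_neg hji, zpow_zero]) (by simp), hni, if_pos rfl,
          zpow_natCast] at h
        exact h
      refine hinf (Set.finite_coe_iff.1 ?_)
      haveI : ∀ i, Finite {z : Kˣ // z ^ m i = 1} := fun i => by
        haveI : NeZero (m i) := ⟨(hm i).ne'⟩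
        exact Finite.of_injective (fun z => (⟨z.1, (mem_rootsOfUnity _ _).2 z.2⟩ : rootsOfUnity (m i) K))
          fun a b e => Subtype.ext (congrArg Subtype.val e :)
      refine Finite.of_injective (fun g : H => fun i => (⟨χu i g, hfin i g⟩ : {z : Kˣ // z ^ m i = 1})) fun a b e => ?_
      refine Subtype.ext (Units.ext ?_)
      rw [hd a, hd b, show d a = d b from funext fun i => congrArg (fun z : Kˣ => (z : K)) (congrArg Subtype.val (congrFun e i))]
    · obtain ⟨φ, hφ, hφW⟩ := W.exists_dual_map_eq_bot_of_lt_top (lt_top_iff_ne_top.2 hW) inferInstance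
      obtain ⟨Nd, ν, hNd, hν⟩ := exists_clear_denom fun i => φ (Pi.single i 1)
      refine ⟨ν, fun h0 => hφ (LinearMap.pi_ext' fun i => LinearMap.ext_ring ?_), fun n hn => ?_⟩
      · have h := congrFun hν i
        simp only [h0, Pi.zero_apply, Int.cast_zero, Pi.smul_apply, smul_eq_mul, zero_eq_mul, Nat.cast_eq_zero,
          hNd.ne', false_or] at h
        exact h
      · have h0 : φ (fun i => (n i : ℚ)) = 0 :=
          Submodule.eq_bot_iff _ |>.1 hφW _ (Submodule.mem_map_of_mem (Submodule.subset_span ⟨n, hn, rfl⟩))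
        rw [← Finset.univ_sum_single (fun i => (n i : ℚ)), map_sum] at h0
        have h1 : ((∑ i, n i * ν i : ℤ) : ℚ) = 0 := by
          push_cast
          rw [← mul_eq_zero_of_right (Nd : ℚ) h0, Finset.mul_sum]
          refine Finset.sum_congr rfl fun i _ => ?_
          rw [show Pi.single i (n i : ℚ) = (n i : ℚ) • (Pi.single i 1 : Fin N → ℚ) by rw [← Pi.single_smul]; simp,
            map_smul, smul_eq_mul, show (ν i : ℚ) = (Nd : ℚ) * φ (Pi.single i 1) from congrFun hν i]
          ring
        exact_mod_cast h1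
  let f₀ : Kˣ →* GLk K N :=
    (MonoidHom.toHomUnits
      { toFun := fun t => Matrix.diagonal fun i => ((t ^ ν i : Kˣ) : K)
        map_one' := by simp
        map_mul' := fun a b => by simp [Matrix.diagonal_mul_diagonal, _root_.mul_zpow] })
  let f : Kˣ →* GLk K N := (MulAut.conj P).toMonoidHom.comp f₀
  have hf : ∀ t, (f t : Mat K N) =
      (P : Mat K N) * Matrix.diagonal (fun i => ((t ^ ν i : Kˣ) : K)) * ((P⁻¹ : GLk K N) : Mat K N) := fun t => rfl
  refine ⟨f, ?_, fun t => hH _ fun p hp => ?_, ?_⟩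
  · refine (IsLaurent.conj ?_ P)
    refine ⟨Finset.univ.image ν, fun w => Matrix.diagonal fun i => if ν i = w then 1 else 0, fun t => ?_⟩
    ext a b
    rcases eq_or_ne a b with rfl | hab
    · rw [Matrix.sum_apply]
      simp [f₀, Finset.sum_ite_eq]
    · simp [f₀, Matrix.sum_apply, Matrix.diagonal_apply_ne _ hab]
  · -- the polynomial in the diagonal coordinates
    let Q : MvPolynomial (Fin N) K := MvPolynomial.aeval (fun ij : Fin N × Fin N =>
      ((P : Mat K N).map MvPolynomial.C * Matrix.diagonal MvPolynomial.X *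
        ((P⁻¹ : GLk K N) : Mat K N).map MvPolynomial.C : Matrix (Fin N) (Fin N) (MvPolynomial (Fin N) K)) ij.1 ij.2) p
    have hQ : ∀ x : Fin N → K, MvPolynomial.eval x Q = MvPolynomial.aeval (fun ij : Fin N × Fin N =>
        ((P : Mat K N) * Matrix.diagonal x * ((P⁻¹ : GLk K N) : Mat K N) : Mat K N) ij.1 ij.2) p := fun x => by
      show MvPolynomial.aeval x Q = _
      rw [← AlgHom.comp_apply, MvPolynomial.comp_aeval]
      refine congrArg (fun g => MvPolynomial.aeval g p) (funext fun ij => ?_)
      simp [Matrix.mul_apply, Matrix.diagonal_apply, apply_ite (MvPolynomial.aeval x)]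
    -- grouping monomials by the character they induce
    let ch : (Fin N →₀ ℕ) → (H →* K) := fun e => ∏ i, χ i ^ e i
    have hch : ∀ e (g : H), ch e g = ∏ i, d g i ^ e i := fun e g => by
      simp [ch, χ, MonoidHom.finsetProd_apply]
    have hQH : ∀ g : H, ∑ e ∈ Q.support, Q.coeff e * ch e g = 0 := fun g => by
      have h0 : MvPolynomial.eval (d g) Q = 0 := by
        rw [hQ, ← hd g]
        exact mem_vIdeal.1 hp _ g.2
      rw [MvPolynomial.eval_eq'] at h0
      simpa [hch] using h0
    have hgroup : ∀ c ∈ Q.support.image ch, ∑ e ∈ Q.support.filter (fun e => ch e = c), Q.coeff e = 0 := by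
      refine linearIndependent_iff'.mp (linearIndependent_monoidHom H K) _ _ (funext fun g => ?_)
      rw [Finset.sum_apply, Pi.zero_apply, ← hQH g,
        ← Finset.sum_fiberwise_of_maps_to (g := ch) (t := Q.support.image ch)
          (fun e he => Finset.mem_image_of_mem _ he) (fun e => Q.coeff e * ch e g)]
      refine Finset.sum_congr rfl fun c _ => ?_
      rw [Pi.smul_apply, smul_eq_mul, Finset.sum_mul]
      exact Finset.sum_congr rfl fun e he => by rw [(Finset.mem_filter.1 he).2]
    show MvPolynomial.aeval (fun ij : Fin N × Fin N => (f t : Mat K N) ij.1 ij.2) p = 0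
    rw [hf, ← hQ, MvPolynomial.eval_eq', ← Finset.sum_fiberwise_of_maps_to (g := ch) (t := Q.support.image ch)
      (fun e he => Finset.mem_image_of_mem _ he)]
    refine Finset.sum_eq_zero fun c hc => ?_
    obtain ⟨e₀, -, rfl⟩ := Finset.mem_image.1 hc
    have hw : ∀ e : Fin N →₀ ℕ, ∏ i, ((t ^ ν i : Kˣ) : K) ^ e i = ((t ^ ∑ i, (e i : ℤ) * ν i : Kˣ) : K) := fun e => by
      have hz : ∀ (S : Finset (Fin N)) (m : Fin N → ℤ), t ^ (∑ i ∈ S, m i) = ∏ i ∈ S, t ^ m i := fun S m => by
        induction S using Finset.induction_on with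
        | empty => simp
        | insert i S hi ih => rw [Finset.sum_insert hi, Finset.prod_insert hi, _root_.zpow_add, ih]
      rw [hz, Units.coe_prod]
      refine Finset.prod_congr rfl fun i _ => ?_
      rw [← Units.val_pow_eq_pow_val, ← zpow_natCast, ← _root_.zpow_mul, mul_comm]
    have heq : ∀ e ∈ Q.support.filter (fun e => ch e = ch e₀),
        Q.coeff e * ∏ i, ((t ^ ν i : Kˣ) : K) ^ e i = Q.coeff e * ∏ i, ((t ^ ν i : Kˣ) : K) ^ e₀ i := fun e he => by
      have hmem : (fun i => (e i : ℤ) - e₀ i) ∈ Λ := fun g => by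
        have h := DFunLike.congr_fun (Finset.mem_filter.1 he).2 g
        rw [hch, hch] at h
        simp only [_root_.zpow_sub, zpow_natCast, Finset.prod_mul_distrib, Finset.prod_inv_distrib, mul_inv_eq_one]
        refine Units.ext ?_
        simpa [χu, χ, Units.coe_prod] using h
      have h := hνΛ _ hmem
      simp only [sub_mul, Finset.sum_sub_distrib, sub_eq_zero] at h
      rw [hw, hw, h]
    rw [Finset.sum_congr rfl heq, ← Finset.sum_mul, hgroup _ hc, zero_mul]
  · obtain ⟨i, hi⟩ := Function.ne_iff.1 hν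
    rw [Pi.zero_apply] at hi
    intro hfin
    refine infinite_goodRoots (k := K) ((hfin.preimage' fun w _ => ?_).subset (Set.subset_preimage_image f _))
    rcases (f ⁻¹' {w}).eq_empty_or_nonempty with h | ⟨z₀, hz₀⟩
    · rw [h]; exact Set.finite_empty
    haveI : NeZero (ν i).natAbs := ⟨Int.natAbs_ne_zero.2 hi⟩
    refine Set.Finite.subset ((Set.finite_range fun z : rootsOfUnity (ν i).natAbs K => z₀ * (z : Kˣ))) fun z hz => ?_
    have h : z ^ ν i = z₀ ^ ν i := by
      have h1 := congrArg (fun M : GLk K N => P⁻¹ * M * P) ((hz : f z = w).trans (hz₀ : f z₀ = w).symm)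
      simp only [f, MonoidHom.comp_apply, MulEquiv.coe_toMonoidHom, MulAut.conj_apply] at h1
      have h2 := congrArg (fun M : GLk K N => (M : Mat K N) i i) (mul_left_cancel (mul_right_cancel (by
        simpa [mul_assoc] using h1 : P * f₀ z * P⁻¹ = P * f₀ z₀ * P⁻¹)))
      exact Units.ext (by simpa [f₀] using h2)
    refine ⟨⟨z₀⁻¹ * z, (mem_rootsOfUnity' _ _).2 ?_⟩, by simp⟩
    rw [← Units.val_pow_eq_pow_val, ← Units.val_one]
    refine congrArg Units.val ?_
    have h3 : (z₀⁻¹ * z) ^ ν i = 1 := by rw [_root_.mul_zpow, h, _root_.inv_zpow, inv_mul_cancel]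
    rcases Int.natAbs_eq (ν i) with e | e <;> rw [e] at h3 <;> simpa using h3

end Groth.Agent.H20Semi
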