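import Groth.Agent.H20Conj.Rep
import Groth.Agent.H20Conj.Common
import Groth.Agent.H20Conj.Split
import Groth.Agent.H20Semi.Closed

/-!
# Points of an affine group with values in an algebraically closed overfield, as matrices
-/

set_option autoImplicit false
set_option linter.style.haveILetI false
set_option backward.isDefEq.respectTransparency false

universe u

open CategoryTheory CategoryTheory.Limits MonoidalCategory CartesianMonoidalCategory MonObj AlgebraicGeometry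
open Groth.Agent.H27Witt H20Mu H20Conj

noncomputable section

namespace Groth.Agent.H20Semi

variable {k : Type u} [Field k] {Ω : Type u} [Field Ω] [Algebra k Ω]
variable {P : Over (Sk k)} (q : Fn P ≃ₐ[k] Ω)

/-- The value of a function at an `Ω`-point. -/
def pv {X : Over (Sk k)} (g : P ⟶ X) : Fn X →ₐ[k] Ω := q.toAlgHom.comp (Fn.pull g)

theorem pv_apply {X : Over (Sk k)} (g : P ⟶ X) (a : Fn X) : pv q g a = q (Fn.pull g a) := rfl

theorem pv_pull {X Y : Over (Sk k)} (g : P ⟶ X) (f : X ⟶ Y) (a : Fn Y) :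
    pv q g (Fn.pull f a) = pv q (g ≫ f) a := rfl

theorem pv_const {X : Over (Sk k)} (y : 𝟙_ (Over (Sk k)) ⟶ X) (a : Fn X) :
    pv q (toUnit P ≫ y) a = algebraMap k Ω (val y a) := by
  rw [pv_apply, pull_const, AlgEquiv.commutes]

theorem pv_one {X : Over (Sk k)} [GrpObj X] (a : Fn X) :
    pv q (1 : P ⟶ X) a = algebraMap k Ω (val (1 : 𝟙_ (Over (Sk k)) ⟶ X) a) := by
  rw [← pv_const, MonObj.comp_one]

theorem pv_injective {X : Over (Sk k)} [IsAffine X.left] {g h : P ⟶ X} (e : pv q g = pv q h) : g = h :=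
  Fn.hom_ext (AlgHom.ext fun a => q.injective (AlgHom.congr_fun e a))

theorem pv_surjective {X : Over (Sk k)} [IsAffine X.left] (ψ : Fn X →ₐ[k] Ω) : ∃ g : P ⟶ X, pv q g = ψ := by
  obtain ⟨g, hg⟩ := Fn.exists_hom (X := P) (q.symm.toAlgHom.comp ψ)
  refine ⟨g, AlgHom.ext fun a => ?_⟩
  rw [pv_apply, hg]
  exact q.apply_symm_apply _

section Rep

variable (G : Over (Sk k)) [GrpObj G]

/-- A closed embedding of the group of `Ω`-points, defined over `k`. -/
theorem exists_rep_points [IsAlgClosed k] [IsAffine G.left] [Smooth G.hom] :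
    ∃ (N : ℕ) (Φ : (P ⟶ G) →* GLk Ω N) (F : Fin N → Fin N → Fn G), Function.Injective Φ ∧
      IsZClosed (Φ.range : Set (GLk Ω N)) ∧ (∀ g a b, (Φ g : Mat Ω N) a b = pv q g (F a b)) ∧
      Function.Surjective (MvPolynomial.aeval (R := k) fun ab : Fin N × Fin N => F ab.1 ab.2) := by
  obtain ⟨N, φ, F, -, -, hF, hsurj⟩ := exists_rep_gen G
  let R : (P ⟶ G) → Mat Ω N := fun g => Matrix.of fun a b => pv q g (F a b)
  have hone : R 1 = 1 := by
    ext a b
    show pv q (1 : P ⟶ G) (F a b) = _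
    rw [pv_one, ← hF, map_one, Units.val_one, Matrix.one_apply, Matrix.one_apply]
    split <;> simp
  haveI : Smooth (G ⊗ G).hom := by
    haveI : Smooth (fst G G).left := MorphismProperty.pullback_fst (P := @Smooth) _ _ inferInstance
    rw [← Over.w (fst G G)]
    infer_instance
  haveI : IsAffine (G ⊗ G).left := inferInstanceAs (IsAffine (pullback G.hom G.hom))
  have hμ : ∀ a b, Fn.pull μ[G] (F a b) = ∑ r, Fn.pull (fst G G) (F a r) * Fn.pull (snd G G) (F r b) := fun a b => by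
    refine Fn.ext_points fun z => ?_
    show val z _ = val z _
    rw [map_sum, val_pull, show z ≫ μ[G] = (z ≫ fst G G) * (z ≫ snd G G) by rw [Hom.mul_def, ← comp_lift, lift_fst_snd,
      Category.comp_id], ← hF, map_mul, Units.val_mul, Matrix.mul_apply]
    exact Finset.sum_congr rfl fun r _ => by rw [map_mul, val_pull, val_pull, ← hF, ← hF]
  have hmul : ∀ g h : P ⟶ G, R (g * h) = R g * R h := fun g h => by
    ext a b
    show pv q (g * h) (F a b) = _
    rw [Hom.mul_def, ← pv_pull, hμ, map_sum, Matrix.mul_apply]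
    exact Finset.sum_congr rfl fun r _ => by rw [map_mul, pv_pull, pv_pull, lift_fst, lift_snd]; rfl
  let Φ : (P ⟶ G) →* GLk Ω N := MonoidHom.toHomUnits ⟨⟨R, hone⟩, hmul⟩
  have hΦ : ∀ g a b, (Φ g : Mat Ω N) a b = pv q g (F a b) := fun g a b => rfl
  have hgen : ∀ g, (pv q g).comp (MvPolynomial.aeval fun ab : Fin N × Fin N => F ab.1 ab.2) =
      MvPolynomial.aeval fun ab : Fin N × Fin N => (Φ g : Mat Ω N) ab.1 ab.2 := fun g => by
    rw [MvPolynomial.comp_aeval]
    exact congrArg _ (funext fun ab => (hΦ g _ _).symm)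
  refine ⟨N, Φ, F, fun g h e => ?_, fun M hM => ?_, hΦ, hsurj⟩
  · refine pv_injective q (AlgHom.ext fun x => ?_)
    obtain ⟨p, rfl⟩ := hsurj x
    rw [← AlgHom.comp_apply, ← AlgHom.comp_apply, hgen, hgen, e]
  · let π : MvPolynomial (Fin N × Fin N) k →ₐ[k] Fn G := MvPolynomial.aeval fun ab : Fin N × Fin N => F ab.1 ab.2
    let χ₀ : MvPolynomial (Fin N × Fin N) k →ₐ[k] Ω :=
      MvPolynomial.aeval fun ab : Fin N × Fin N => (M : Mat Ω N) ab.1 ab.2
    have hker : ∀ p ∈ RingHom.ker π, χ₀ p = 0 := fun p hp => by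
      have h := hM (MvPolynomial.map (algebraMap k Ω) p) (mem_vIdeal.mpr (by
        rintro _ ⟨g, rfl⟩
        rw [evM, MvPolynomial.aeval_map_algebraMap, ← hgen, AlgHom.comp_apply, show π p = 0 from hp, map_zero]))
      rwa [evM, MvPolynomial.aeval_map_algebraMap] at h
    let χ : Fn G →ₐ[k] Ω := (Ideal.Quotient.liftₐ (RingHom.ker π) χ₀ hker).comp
      (Ideal.quotientKerAlgEquivOfSurjective hsurj).symm.toAlgHom
    obtain ⟨g, hg⟩ := pv_surjective q χ
    refine ⟨g, Units.ext (Matrix.ext fun a b => ?_)⟩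
    rw [hΦ, hg]
    show χ (F a b) = _
    rw [show F a b = π (MvPolynomial.X (a, b)) from (MvPolynomial.aeval_X (R := k) (fun ab : Fin N × Fin N => F ab.1 ab.2) (a, b)).symm]
    show Ideal.Quotient.liftₐ (RingHom.ker π) χ₀ hker ((Ideal.quotientKerAlgEquivOfSurjective hsurj).symm
      (π (MvPolynomial.X (a, b)))) = _
    rw [show π (MvPolynomial.X (a, b)) = Ideal.quotientKerAlgEquivOfSurjective hsurj
      (Ideal.Quotient.mk _ (MvPolynomial.X (a, b))) from rfl, AlgEquiv.symm_apply_apply]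
    exact MvPolynomial.aeval_X _ (a, b)

end Rep

section SolSet

variable {G : Over (Sk k)} [GrpObj G] [IsAffine G.left] [IsAffine P.left] {N : ℕ} (Φ : (P ⟶ G) →* GLk Ω N)
  (F : Fin N → Fin N → Fn G)

/-- The solution set of an equation in a separated scheme is closed. -/
theorem isZClosed_solSet {X : Over (Sk k)} [IsSeparated X.hom] (a₁ a₂ : G ⊗ P ⟶ X)
    (hc : IsZClosed (Φ.range : Set (GLk Ω N))) (hF : ∀ g a b, (Φ g : Mat Ω N) a b = pv q g (F a b))
    (hsurj : Function.Surjective (MvPolynomial.aeval (R := k) fun ab : Fin N × Fin N => F ab.1 ab.2)) :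
    IsZClosed (Φ '' {g | lift g (𝟙 P) ≫ a₁ = lift g (𝟙 P) ≫ a₂}) := by
  let κ := equalizer.ι a₁ a₂
  haveI : IsClosedImmersion κ.left := isClosedImmersion_equalizer_ι_left a₁ a₂
  haveI : IsAffine (G ⊗ P).left := inferInstanceAs (IsAffine (pullback G.hom P.hom))
  obtain ⟨hE, hEsurj⟩ := IsClosedImmersion.isAffine_surjective_of_isAffine κ.left
  haveI := hE
  intro M hM
  obtain ⟨g, rfl⟩ := hc M fun p hp => hM p (vIdeal_mono (Set.image_subset_range _ _) hp)
  refine ⟨g, ?_, rfl⟩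
  have hker : ∀ j : Fn (G ⊗ P), Fn.pull κ j = 0 → Fn.pull (lift g (𝟙 P)) j = 0 := fun j hj => by
    obtain ⟨n, c, d, rfl⟩ := Fn.exists_decomp j
    choose pc hpc using fun i => hsurj (c i)
    let p : EPoly Ω N := ∑ i, MvPolynomial.C (q (d i)) * MvPolynomial.map (algebraMap k Ω) (pc i)
    have hev : ∀ h : P ⟶ G, evM (Φ h) p =
        q (Fn.pull (lift h (𝟙 P)) (∑ i, Fn.pull (fst G P) (c i) * Fn.pull (snd G P) (d i))) := fun h => by
      rw [map_sum, map_sum, map_sum]
      refine Finset.sum_congr rfl fun i _ => ?_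
      rw [map_mul, map_mul, map_mul, Fn.pull_pull, Fn.pull_pull, lift_fst, lift_snd, Fn.pull_id, ← hpc i,
        mul_comm (q _)]
      congr 1
      · simp [evM]
      · rw [evM, MvPolynomial.aeval_map_algebraMap, ← pv_apply, ← AlgHom.comp_apply, MvPolynomial.comp_aeval]
        exact congrArg (fun f => MvPolynomial.aeval f (pc i)) (funext fun ab => hF h ab.1 ab.2)
    have h0 := hM p (mem_vIdeal.mpr (by
      rintro _ ⟨h, hh, rfl⟩
      rw [hev, ← equalizer.lift_ι (lift h (𝟙 P)) hh, ← Fn.pull_pull, hj, map_zero, map_zero]))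
    rw [hev, map_eq_zero_iff q q.injective] at h0
    exact h0
  have hs : Function.Surjective (Fn.pull κ) := hEsurj
  obtain ⟨t, ht⟩ := Fn.exists_hom (X := P) ((Fn.pull κ).liftOfSurjective hs (Fn.pull (lift g (𝟙 P))) fun x hx =>
    hker x hx)
  have hz : t ≫ κ = lift g (𝟙 P) := Fn.hom_ext (AlgHom.ext fun x => by
    rw [← Fn.pull_pull, ht, AlgHom.liftOfSurjective_apply])
  show lift g (𝟙 P) ≫ a₁ = lift g (𝟙 P) ≫ a₂
  rw [← hz, Category.assoc, Category.assoc, equalizer.condition]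

end SolSet

section Gm

/-- The `Ω`-point of `G_m` with a given parameter. -/
def tp : Ωˣ →* (P ⟶ Red.Gm (Sk k)) where
  toFun t := GmPts.ptOfUnit (Units.map ((q.symm : Ω →+* Fn P) : Ω →* Fn P) t)
  map_one' := by
    refine gm_pt_ext ?_
    rw [GmPts.unitOfPt_ptOfUnit, map_one, GmPts.unitOfPt_one]
  map_mul' a b := by
    refine gm_pt_ext ?_
    rw [GmPts.unitOfPt_ptOfUnit, map_mul, GmPts.unitOfPt_mul, GmPts.unitOfPt_ptOfUnit, GmPts.unitOfPt_ptOfUnit]

theorem tp_surjective (y : P ⟶ Red.Gm (Sk k)) : ∃ t, tp q t = y := by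
  refine ⟨Units.map ((q : Fn P →+* Ω) : Fn P →* Ω) (GmPts.unitOfPt y), gm_pt_ext ?_⟩
  show ((GmPts.unitOfPt (GmPts.ptOfUnit _ : P ⟶ Red.Gm (Sk k)) : (Γ(P.left, ⊤))ˣ) : Γ(P.left, ⊤)) = _
  rw [GmPts.unitOfPt_ptOfUnit]
  exact q.symm_apply_apply _

theorem pv_tp_zFn (t : Ωˣ) (i : ℤ) :
    pv q (tp q t) ((zFn ^ i : (Fn (Red.Gm (Sk k)))ˣ) : Fn (Red.Gm (Sk k))) = ((t ^ i : Ωˣ) : Ω) := by
  show q ((Units.map ((Fn.pull (tp q t) : Fn (Red.Gm (Sk k)) →ₐ[k] Fn P) : Fn (Red.Gm (Sk k)) →* Fn P)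
    (zFn ^ i) : (Fn P)ˣ) : Fn P) = _
  rw [map_zpow, pull_zFn, show GmPts.unitOfPt (tp q t) = Units.map ((q.symm : Ω →+* Fn P) : Ω →* Fn P) t from
    GmPts.unitOfPt_ptOfUnit _, ← map_zpow]
  exact q.apply_symm_apply _

/-- One-parameter subgroups give Laurent families of matrices. -/
theorem isLaurent_cochar {G : Over (Sk k)} [GrpObj G] {N : ℕ} (Φ : (P ⟶ G) →* GLk Ω N)
    (F : Fin N → Fin N → Fn G) (hF : ∀ g a b, (Φ g : Mat Ω N) a b = pv q g (F a b))
    (e : Red.Gm (Sk k) ⟶ G) [IsMonHom e] :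
    ∃ f : Ωˣ →* GLk Ω N, IsLaurent f ∧ ∀ t, f t = Φ (tp q t ≫ e) := by
  let m : Ωˣ →* (P ⟶ G) :=
    { toFun := fun t => tp q t ≫ e
      map_one' := by rw [map_one, MonObj.one_comp]
      map_mul' := fun a b => by rw [map_mul, MonObj.mul_comp] }
  refine ⟨Φ.comp m, ?_, fun t => rfl⟩
  choose s c hsc using fun ab : Fin N × Fin N => exists_laurent (Fn.pull e (F ab.1 ab.2))
  classical
  refine ⟨Finset.univ.biUnion s, fun i => Matrix.of fun a b => if i ∈ s (a, b) then algebraMap k Ω (c (a, b) i) else 0,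
    fun t => ?_⟩
  ext a b
  show (Φ (tp q t ≫ e) : Mat Ω N) a b = _
  rw [hF, ← pv_pull, hsc (a, b), map_sum, Matrix.sum_apply]
  simp only [map_smul, pv_tp_zFn, Matrix.smul_apply, Matrix.of_apply, smul_eq_mul, mul_ite, mul_zero]
  rw [Finset.sum_ite_mem, Finset.inter_eq_right.2 (Finset.subset_biUnion_of_mem s (Finset.mem_univ (a, b)))]
  exact Finset.sum_congr rfl fun i _ => by rw [Algebra.smul_def, mul_comm]

end Gm

include q in
/-- Absence of torsion passes to `Ω`-points. -/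
theorem eq_one_of_pow_eq_one [IsAlgClosed k] {U : Over (Sk k)} [GrpObj U] [IsAffine U.left]
    [LocallyOfFiniteType U.hom] {n : ℕ} (hk : ∀ g : 𝟙_ (Over (Sk k)) ⟶ U, g ^ n = 1 → g = 1)
    (u : P ⟶ U) (hu : u ^ n = 1) : u = 1 := by
  haveI := Fn.finiteType U
  let pw : U ⟶ U := (𝟙 U) ^ n
  have hpw : ∀ {Y : Over (Sk k)} (z : Y ⟶ U), z ≫ pw = z ^ n := fun z => by
    rw [MonObj.comp_pow, Category.comp_id]
  let I : Ideal (Fn U) := Ideal.span (Set.range fun a =>
    Fn.pull pw a - algebraMap k (Fn U) (val (1 : 𝟙_ (Over (Sk k)) ⟶ U) a))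
  have hI : I ≤ RingHom.ker (pv q u) := Ideal.span_le.2 (by
    rintro _ ⟨a, rfl⟩
    rw [SetLike.mem_coe, RingHom.mem_ker, map_sub, pv_pull, hpw, hu, pv_one, AlgHom.commutes, sub_self])
  refine pv_injective q (AlgHom.ext fun a => ?_)
  let b := a - algebraMap k (Fn U) (val (1 : 𝟙_ (Over (Sk k)) ⟶ U) a)
  suffices hb : b ∈ I.radical by
    obtain ⟨m, hm⟩ := hb
    have h := hI hm
    rw [RingHom.mem_ker, map_pow] at h
    have h2 := eq_zero_of_pow_eq_zero h
    rw [map_sub, AlgHom.commutes, sub_eq_zero] at h2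
    rw [h2, pv_one]
  by_contra hb
  let S := Localization.Away (Ideal.Quotient.mk I b)
  haveI : Nontrivial S := by
    refine not_subsingleton_iff_nontrivial.1 fun hS => hb ?_
    have h0 : (0 : Fn U ⧸ I) ∈ Submonoid.powers (Ideal.Quotient.mk I b) :=
      (IsLocalization.subsingleton_iff (M := Submonoid.powers (Ideal.Quotient.mk I b)) (S := S)).1 hS
    obtain ⟨m, hm⟩ := h0
    exact ⟨m, Ideal.Quotient.eq_zero_iff_mem.1 (by simpa using hm)⟩
  haveI : Algebra.FiniteType (Fn U ⧸ I) S := IsLocalization.finiteType_of_monoid_fg (Submonoid.powers (Ideal.Quotient.mk I b)) S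
  haveI : Algebra.FiniteType k S := Algebra.FiniteType.trans (R := k) (S := Fn U ⧸ I) inferInstance inferInstance
  obtain ⟨χ⟩ := H20Conj.exists_point (k := k) S
  let χ' : Fn U →ₐ[k] k := χ.comp ((IsScalarTower.toAlgHom k (Fn U ⧸ I) S).comp (Ideal.Quotient.mkₐ k I))
  obtain ⟨g, hg⟩ := Fn.exists_point χ'
  have hval : ∀ x, val g x = χ' x := fun x => AlgHom.congr_fun hg x
  have hg1 : g = 1 := hk g (Fn.point_ext (AlgHom.ext fun x => by
    show val (g ^ n) x = val 1 x
    have h : val g (Fn.pull pw x - algebraMap k (Fn U) (val (1 : 𝟙_ (Over (Sk k)) ⟶ U) x)) = 0 := by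
      rw [hval]
      show χ (algebraMap (Fn U ⧸ I) S (Ideal.Quotient.mk I
        (Fn.pull pw x - algebraMap k (Fn U) (val (1 : 𝟙_ (Over (Sk k)) ⟶ U) x)))) = 0
      rw [(Ideal.Quotient.eq_zero_iff_mem (I := I)).2 (Ideal.subset_span ⟨x, rfl⟩), map_zero, map_zero]
    rwa [map_sub, AlgHom.commutes, val_pull, hpw, sub_eq_zero] at h))
  have hu' : IsUnit (χ' b) :=
    (IsLocalization.map_units (M := Submonoid.powers (Ideal.Quotient.mk I b)) S
      ⟨_, Submonoid.mem_powers _⟩).map χ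
  refine hu'.ne_zero ?_
  rw [← hval, hg1, map_sub, AlgHom.commutes, Algebra.algebraMap_self, RingHom.id_apply, sub_self]

end Groth.Agent.H20Semi
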