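import Mathlib

/-!
# Exponential polynomials in two integer variables

An element of `K[X][Kˣ]` is read as the function `(a, b) ↦ ∑ P_l(b) l ^ a`; it is zero as soon as
it vanishes on the diagonal.
-/

set_option autoImplicit false

universe u

noncomputable section

open Polynomial

namespace Groth.Agent.H20Semi

variable {K : Type u} [Field K]

/-- The ring of exponential polynomials. -/
abbrev EP (K : Type u) [Field K] : Type u := MonoidAlgebra K[X] Kˣ

/-- Evaluation of an exponential polynomial. -/
def evAB (a b : ℕ) : EP K →ₐ[K] K :=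
  MonoidAlgebra.liftNCAlgHom (aeval (b : K)) ((Units.coeHom K).comp (powMonoidHom a)) fun _ _ => Commute.all _ _

theorem evAB_single (a b : ℕ) (l : Kˣ) (P : K[X]) :
    evAB a b (MonoidAlgebra.single l P) = P.eval (b : K) * (l : K) ^ a := by
  simp [evAB, Polynomial.coe_aeval_eq_eval]

/-- The shift of sequences. -/
def shift : Module.End K (ℕ → K) where
  toFun f n := f (n + 1)
  map_add' _ _ := rfl
  map_smul' _ _ := rfl

/-- The sequence `n ↦ P(n) l ^ n`. -/
def expSeq (l : K) (P : K[X]) : ℕ → K := fun n => P.eval (n : K) * l ^ n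

theorem expSeq_mem_maxGenEigenspace (l : K) :
    ∀ (d : ℕ) (P : K[X]), P.natDegree ≤ d → expSeq l P ∈ (shift (K := K)).maxGenEigenspace l := by
  intro d
  induction d using Nat.strong_induction_on with
  | _ d ih =>
    intro P hP
    rw [Module.End.mem_maxGenEigenspace]
    by_cases hQ0 : taylor 1 P - P = 0
    · refine ⟨1, funext fun n => ?_⟩
      have h1 : P.eval ((n : K) + 1) = P.eval (n : K) := by
        rw [← taylor_eval, sub_eq_zero.1 hQ0]
      simp [shift, expSeq, h1, pow_succ]
      ring
    · have hP0 : P ≠ 0 := fun h => hQ0 (by simp [h])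
      have hdeg : (taylor 1 P - P).degree < P.degree := degree_sub_lt_right (by
        rw [degree_eq_natDegree ((taylor_injective 1).ne hP0 |> fun h => by simpa using h),
          degree_eq_natDegree hP0, natDegree_taylor]) hP0 (leadingCoeff_taylor (r := (1 : K)) (f := P))
      have hlt : (taylor 1 P - P).natDegree < P.natDegree := natDegree_lt_natDegree hQ0 hdeg
      obtain ⟨m, hm⟩ := (Module.End.mem_maxGenEigenspace _ _ _).1 (ih _ (lt_of_lt_of_le hlt hP) _ le_rfl)
      refine ⟨m + 1, ?_⟩
      rw [pow_succ, Module.End.mul_apply,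
        show (shift (K := K) - l • (1 : Module.End K (ℕ → K))) (expSeq l P) = l • expSeq l (taylor 1 P - P) from funext fun n => by
          simp [shift, expSeq, taylor_eval, pow_succ]
          ring,
        map_smul, hm, smul_zero]

/-- An exponential polynomial vanishing on the diagonal is zero. -/
theorem eq_zero_of_diag [CharZero K] {x : EP K} (h : ∀ m, evAB m m x = 0) : x = 0 := by
  classical
  have hsum : ∀ m, evAB m m x = ∑ l ∈ x.coeff.support, expSeq (l : K) (x.coeff l) m := fun m => by
    conv_lhs => rw [← MonoidAlgebra.sum_coeff_single x]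
    rw [Finsupp.sum, map_sum]
    exact Finset.sum_congr rfl fun l _ => evAB_single m m l _
  have hind : iSupIndep fun l : Kˣ => (shift (K := K)).maxGenEigenspace (l : K) :=
    (Module.End.independent_genEigenspace _ ⊤).comp Units.val_injective
  have h0 := (iSupIndep_iff_finsetSum_eq_zero_imp_eq_zero _).1 hind x.coeff.support
    (fun l => expSeq (l : K) (x.coeff l)) (fun l _ => expSeq_mem_maxGenEigenspace _ _ _ le_rfl)
    (funext fun m => by rw [Finset.sum_apply, ← hsum, h]; rfl)
  refine MonoidAlgebra.ext (Finsupp.ext fun l => ?_)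
  by_contra hne
  have hl := h0 l (Finsupp.mem_support_iff.2 hne)
  refine hne (eq_zero_of_infinite_isRoot _ ((Set.infinite_range_of_injective (Nat.cast_injective (R := K))).mono ?_))
  rintro _ ⟨n, rfl⟩
  exact (mul_eq_zero.1 (congrFun hl n)).resolve_right (pow_ne_zero _ l.ne_zero)

/-- Two exponential polynomials agreeing on the diagonal agree. -/
theorem evAB_eq_of_diag [CharZero K] {x y : EP K} (h : ∀ m, evAB m m x = evAB m m y) (a b : ℕ) :
    evAB a b x = evAB a b y := by
  rw [sub_eq_zero.1 (eq_zero_of_diag (x := x - y) fun m => by rw [map_sub, h, sub_self])]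

end Groth.Agent.H20Semi
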