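import Groth.Agent.H20Torus.Scheme
import Groth.Agent.H20Semi.Points

/-!
# Unipotent groups in characteristic zero have no torsion points
-/

set_option autoImplicit false
set_option linter.style.haveILetI false
set_option backward.isDefEq.respectTransparency false

universe u

open CategoryTheory MonoidalCategory CartesianMonoidalCategory MonObj AlgebraicGeometry
open Groth.Agent.H27Witt

noncomputable section

namespace Groth.Agent.H20Semi

/-- A smooth connected affine group without subtorus has no torsion rational points in characteristic zero. -/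
theorem pt_eq_one_of_pow_eq_one {k : Type u} [Field k] [IsAlgClosed k] [CharZero k] (U : Over (Sk k)) [GrpObj U]
    [IsAffine U.left] [ConnectedSpace ↥U.left] [Smooth U.hom] (hU : Red.HasNoSubtorus k U) {n : ℕ} (hn : n ≠ 0)
    (g : 𝟙_ (Over (Sk k)) ⟶ U) (hg : g ^ n = 1) : g = 1 := by
  obtain ⟨B, _, _, -, -, hB, ⟨e⟩⟩ := H20Torus.exists_isUnipotent_model U hU
  let e' : U ≅ H21Hom.specGrp k B := (Grp.forget _).mapIso e
  haveI : IsMonHom e'.hom := e.hom.hom.isMonHom_hom
  let i : (Spec (CommRingCat.of k)).asOver (Spec (CommRingCat.of k)) ⟶ 𝟙_ (Over (Sk k)) := toUnit _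
  haveI : IsIso i.left := by
    have h : i.left ≫ (𝟙_ (Over (Sk k))).hom = ((Spec (CommRingCat.of k)).asOver (Spec (CommRingCat.of k))).hom := Over.w i
    have h1 : ((Spec (CommRingCat.of k)).asOver (Spec (CommRingCat.of k))).hom = 𝟙 _ := by
      show Spec.map (CommRingCat.ofHom (algebraMap k k)) = _
      rw [Algebra.algebraMap_self, CommRingCat.ofHom_id]
      exact Spec.map_id _
    rw [h1, show (𝟙_ (Over (Sk k))).hom = 𝟙 _ from rfl, Category.comp_id] at h
    rw [h]
    infer_instance
  haveI : IsIso i := H21Diag.isIso_of_left i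
  let ψ : (𝟙_ (Over (Sk k)) ⟶ U) →* WithConv (B →ₐ[k] k) :=
    { toFun := fun z => Spec.mapMulEquiv.symm (i ≫ z ≫ e'.hom)
      map_one' := by rw [MonObj.one_comp, MonObj.comp_one, map_one]
      map_mul' := fun a b => by rw [MonObj.mul_comp, MonObj.comp_mul, map_mul] }
  have h : ψ g ^ n = 1 := by rw [← map_pow, hg, map_one]
  have h1 : ψ g = 1 := (H20Comod.pow_bijective_of_charZero hB n hn).1 (by simpa using h)
  have h2 := Spec.mapMulEquiv.symm.injective (h1.trans (map_one ψ).symm)
  rwa [cancel_epi, cancel_mono] at h2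

end Groth.Agent.H20Semi
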