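import Groth.Agent.H20Prop.SolSet
import Groth.Agent.H20Semi.TorsionFree
import Groth.Prelude.Def_ChGrp

/-!
# Finiteness of stabilisers for `U ⋊ T`
-/

set_option autoImplicit false
set_option linter.style.haveILetI false
set_option backward.isDefEq.respectTransparency false

universe u

open CategoryTheory CategoryTheory.Limits MonoidalCategory CartesianMonoidalCategory MonObj AlgebraicGeometry
open Groth.Agent.H27Witt H20Mu H20Conj

noncomputable section

namespace Groth.Agent.H20Semi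

variable {k : Type u} [Field k] {G U T X P : Over (Sk k)} [GrpObj G] [GrpObj U] [GrpObj T]

theorem comp_list_prod {A B C : Over (Sk k)} [GrpObj C] (z : A ⟶ B) :
    ∀ L : List (B ⟶ C), z ≫ L.prod = (L.map fun f => z ≫ f).prod
  | [] => MonObj.comp_one z
  | f :: L => by rw [List.prod_cons, List.map_cons, List.prod_cons, MonObj.comp_mul, comp_list_prod z L]

theorem list_prod_comp {A B C : Over (Sk k)} [GrpObj B] [GrpObj C] (i : B ⟶ C) [IsMonHom i] :
    ∀ L : List (A ⟶ B), L.prod ≫ i = (L.map fun f => f ≫ i).prod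
  | [] => MonObj.one_comp i
  | f :: L => by rw [List.prod_cons, List.map_cons, List.prod_cons, MonObj.mul_comp, list_prod_comp i L]

/-- The stabiliser of `x` in the points of `G`. -/
def stabPts (a : AlgGrp.Action G X) (x : P ⟶ X) : Subgroup (P ⟶ G) where
  carrier := {g | lift g x ≫ a.act = x}
  one_mem' := H20GIT.act_one a x
  mul_mem' {g h} hg hh := by
    show lift (g * h) x ≫ a.act = x
    rw [H20GIT.act_mul, hh, hg]
  inv_mem' {g} hg := by
    show lift g⁻¹ x ≫ a.act = x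
    conv_lhs => rw [← (hg : lift g x ≫ a.act = x), ← H20GIT.act_mul, inv_mul_cancel, H20GIT.act_one]

theorem mem_stabPts {a : AlgGrp.Action G X} {x : P ⟶ X} {g : P ⟶ G} :
    g ∈ stabPts a x ↔ lift g x ≫ a.act = x := Iff.rfl

theorem restrict_act_eq (i : U ⟶ G) [IsMonHom i] (a : AlgGrp.Action G X) (n : P ⟶ U) (x : P ⟶ X) :
    lift n x ≫ (a.restrict i).act = lift (n ≫ i) x ≫ a.act := by
  show lift n x ≫ (i ▷ X) ≫ a.act = _
  rw [lift_whiskerRight_assoc]

theorem eq_one_of_isIso_stabTo (b : AlgGrp.Action U X) (x : P ⟶ X) (h : IsIso (GLinSh.stabTo b x)) {n : P ⟶ U}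
    (hn : lift n x ≫ b.act = x) : n = 1 := by
  have key : ∀ g : P ⟶ U, lift g x ≫ b.act = x →
      ∃ s : P.left ⟶ GLinSh.stab b x, s ≫ GLinSh.stabTo b x = 𝟙 _ ∧ s ≫ pullback.fst _ _ = (lift g (𝟙 P)).left := by
    intro g hg
    refine ⟨pullback.lift (lift g (𝟙 P)).left (𝟙 _) ?_, pullback.lift_snd _ _ _, pullback.lift_fst _ _ _⟩
    have h2 : lift g (𝟙 P) ≫ GIT.psi b x = lift x (𝟙 P) := by
      apply CartesianMonoidalCategory.hom_ext <;> simp [GIT.psi, lift_whiskerLeft_assoc, hg]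
    rw [← Over.comp_left, h2, Category.id_comp]
  obtain ⟨s, hs, hs'⟩ := key n hn
  obtain ⟨t, ht, ht'⟩ := key 1 (H20GIT.act_one b x)
  have hst : s = t := (cancel_mono (GLinSh.stabTo b x)).1 (hs.trans ht.symm)
  rw [hst, ht'] at hs'
  have h3 := congrArg (· ≫ fst U P) (Over.OverMorphism.ext hs')
  simpa using h3.symm

set_option maxHeartbeats 1600000 in
/-- Finiteness of the stabiliser in `U ⋊ T` is tested on the translates of the torus stabilisers. -/
theorem finite_stab_iff [IsAlgClosed k] [CharZero k] [IsAffine G.left] [LocallyOfFiniteType G.hom] [Smooth G.hom]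
    (iU : U ⟶ G) [IsMonHom iU] [IsClosedImmersion iU.left] [Smooth U.hom] [ConnectedSpace U.left]
    (hU : Red.HasNoSubtorus k U) (hT : Red.IsTorus T) (p : G ⟶ T) [IsMonHom p] (hker : AlgGrp.IsKernel iU p)
    (iT : T ⟶ G) [IsMonHom iT] (hsplit : iT ≫ p = 𝟙 T) [IsSeparated X.hom] (a : AlgGrp.Action G X)
    {Ω : Type u} [Field Ω] [IsAlgClosed Ω] (e : P.left ≅ Spec (CommRingCat.of Ω)) (x : P ⟶ X)
    (hfree : IsIso (GLinSh.stabTo (a.restrict iU) x)) :
    Finite {g : P ⟶ G // lift g x ≫ a.act = x} ↔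
      ∀ u : P ⟶ U, Finite {t : P ⟶ T // lift t (lift (u ≫ iU) x ≫ a.act) ≫ (a.restrict iT).act = lift (u ≫ iU) x ≫ a.act} := by
  classical
  have hiT : ∀ {Y : Over (Sk k)} (z : Y ⟶ T), (z ≫ iT) ≫ p = z := fun z => by
    rw [Category.assoc, hsplit, Category.comp_id]
  constructor
  · intro h u
    refine Finite.of_injective (fun t => (⟨(u ≫ iU)⁻¹ * (t.1 ≫ iT) * (u ≫ iU), ?_⟩ : {g : P ⟶ G // lift g x ≫ a.act = x}))
      fun t t' e' => ?_
    · have ht := t.2
      rw [restrict_act_eq, ← H20GIT.act_mul] at ht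
      rw [_root_.mul_assoc, H20GIT.act_mul, ht, ← H20GIT.act_mul, inv_mul_cancel, H20GIT.act_one]
    · have e'' := mul_left_cancel (mul_right_cancel (congrArg Subtype.val e' :))
      exact Subtype.ext (by rw [← hiT t.1, ← hiT t'.1, e''])
  intro hfin
  by_contra hinf
  haveI : IsAffine U.left := (IsClosedImmersion.isAffine_surjective_of_isAffine iU.left).1
  haveI : Mono iU := by
    haveI : Mono iU.left := inferInstance
    exact Over.mono_of_mono_left iU
  haveI : IsAffine P.left := IsAffine.of_isIso e.hom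
  let r : Fn P ≃+* Ω := ((asIso e.inv.appTop) ≪≫ Scheme.ΓSpecIso (CommRingCat.of Ω)).commRingCatIsoToRingEquiv
  letI : Algebra k Ω := ((r : Fn P →+* Ω).comp (algebraMap k (Fn P))).toAlgebra
  let q : Fn P ≃ₐ[k] Ω := AlgEquiv.ofRingEquiv (f := r) fun c => rfl
  haveI : CharZero Ω := charZero_of_injective_algebraMap (algebraMap k Ω).injective
  obtain ⟨N, Φ, F, hΦinj, hclosed, hF, hsurj⟩ := exists_rep_points q G
  obtain ⟨r', ec, co, he, hco, hprod, hcommT⟩ := exists_cochars T hT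
  have hdec : ∀ z : P ⟶ T, z = (List.ofFn fun j => (z ≫ co j) ≫ ec j).prod := fun z => by
    conv_lhs => rw [← Category.comp_id z, ← hprod, comp_list_prod, List.map_ofFn]
    refine congrArg List.prod (List.ofFn_inj.mpr (funext fun j => ?_))
    simp [Function.comp_def]
  -- the stabiliser, as a closed group of matrices
  let HS : Subgroup (GLk Ω N) := (stabPts a x).map Φ
  have hHS : IsZClosed (HS : Set (GLk Ω N)) := by
    have h := isZClosed_solSet q Φ F (lift (fst G P) (snd G P ≫ x) ≫ a.act) (snd G P ≫ x) hclosed hF hsurj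
    have hset : {g : P ⟶ G | lift g (𝟙 P) ≫ lift (fst G P) (snd G P ≫ x) ≫ a.act = lift g (𝟙 P) ≫ snd G P ≫ x} =
        (stabPts a x : Set (P ⟶ G)) := Set.ext fun g => by
      show _ = _ ↔ lift g x ≫ a.act = x
      rw [comp_lift_assoc, lift_fst, lift_snd_assoc, Category.id_comp]
    rw [hset] at h
    rw [Subgroup.coe_map]
    exact h
  -- characters
  choose pol hpol using fun j => hsurj (Fn.pull (p ≫ co j) ((zFn : (Fn (Red.Gm (Sk k)))ˣ) : Fn (Red.Gm (Sk k))))
  let Xs : Set (EPoly Ω N) := Set.range fun j => MvPolynomial.map (algebraMap k Ω) (pol j)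
  have hchar : ∀ (g : P ⟶ G) j t, tp q t = g ≫ p ≫ co j →
      evM (Φ g) (MvPolynomial.map (algebraMap k Ω) (pol j)) = t := fun g j t ht => by
    rw [evM, MvPolynomial.aeval_map_algebraMap]
    have h1 : (pv q g).comp (MvPolynomial.aeval fun ab : Fin N × Fin N => F ab.1 ab.2) =
        MvPolynomial.aeval fun ab : Fin N × Fin N => (Φ g : Mat Ω N) ab.1 ab.2 := by
      rw [MvPolynomial.comp_aeval]
      exact congrArg _ (funext fun ab => (hF g _ _).symm)
    rw [← h1, AlgHom.comp_apply, hpol, pv_pull, ← ht]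
    have h2 := pv_tp_zFn q t 1
    rwa [zpow_one, zpow_one] at h2
  have hkerp : ∀ g : P ⟶ G, g ≫ p = 1 → ∃ n : P ⟶ U, n ≫ iU = g := fun g hg => by
    have h2 : g ≫ p = toUnit P ≫ η[T] := hg.trans Hom.one_def
    exact ⟨hker.lift _ _ h2, hker.lift_fst _ _ _⟩
  have hfree' : ∀ g : P ⟶ G, g ∈ stabPts a x → g ≫ p = 1 → g = 1 := fun g hg hgp => by
    obtain ⟨n, rfl⟩ := hkerp g hgp
    rw [eq_one_of_isIso_stabTo (a.restrict iU) x hfree (n := n) (by rw [restrict_act_eq]; exact hg), MonObj.one_comp]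
  obtain ⟨f, hfL, hfH, hfinf⟩ := exists_cochar hHS Xs
    (by
      rintro _ ⟨j, rfl⟩ _ ⟨g, -, rfl⟩ _ ⟨g', -, rfl⟩
      obtain ⟨t, ht⟩ := tp_surjective q (g ≫ p ≫ co j)
      obtain ⟨t', ht'⟩ := tp_surjective q (g' ≫ p ≫ co j)
      haveI := hco j
      rw [← map_mul, hchar g j t ht, hchar g' j t' ht', hchar (g * g') j (t * t') (by
        rw [map_mul, ht, ht', MonObj.mul_comp]), Units.val_mul])
    (by
      rintro _ ⟨j, rfl⟩
      haveI := hco j
      rw [← map_one Φ, hchar 1 j 1 (by rw [map_one, MonObj.one_comp]), Units.val_one])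
    (by
      rintro _ ⟨g, hg, rfl⟩ hu
      rw [hfree' g hg ?_, map_one]
      rw [hdec (g ≫ p)]
      refine List.prod_eq_one fun y hy => ?_
      obtain ⟨j, rfl⟩ := List.mem_ofFn.1 hy
      obtain ⟨t, ht⟩ := tp_surjective q (g ≫ p ≫ co j)
      have h1 : t = 1 := Units.ext (by rw [← hchar g j t ht]; exact hu _ ⟨j, rfl⟩)
      haveI := he j
      rw [Category.assoc g p, ← ht, h1, map_one, MonObj.one_comp])
    (fun hf => hinf (by
      have hfin' : (stabPts a x : Set (P ⟶ G)).Finite :=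
        Set.Finite.of_finite_image (by rw [← Subgroup.coe_map]; exact hf) hΦinj.injOn
      exact hfin'.to_subtype))
  -- conjugate into the centraliser of the torus
  choose fe hfeL hfe using fun j => haveI := he j; isLaurent_cochar q Φ F hF (ec j ≫ iT)
  have hfe_mem : ∀ j t, fe j t ∈ Φ.range := fun j t => ⟨_, (hfe j t).symm⟩
  have hfe_comm : ∀ i j s t, Commute (fe i s : Mat Ω N) (fe j t) := fun i j s t => by
    rw [hfe, hfe, ← Category.assoc, ← Category.assoc]
    refine (Commute.map ?_ Φ).map (Units.coeHom _)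
    show _ * _ = _ * _
    rw [← MonObj.mul_comp, ← MonObj.mul_comp, hcommT]
  have hHSle : ∀ t, f t ∈ Φ.range := fun t => by
    obtain ⟨g, -, hg⟩ := hfH t
    exact ⟨g, hg⟩
  obtain ⟨u, ⟨g₀, rfl⟩, hu⟩ := exists_conj (r' := 1) Φ.range hclosed fe (fun _ => f) hfeL (fun _ => hfL) hfe_mem
    (fun _ t => hHSle t) hfe_comm
    (fun _ _ s t => Commute.map (show Commute (f s) (f t) from by rw [Commute, SemiconjBy, ← map_mul, ← map_mul, mul_comm])
      (Units.coeHom _))
  let t₀ : P ⟶ T := g₀ ≫ p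
  obtain ⟨w, hw⟩ := hkerp ((t₀ ≫ iT)⁻¹ * g₀) (by
    rw [MonObj.mul_comp, GrpObj.inv_comp, hiT, inv_mul_cancel])
  have hstep : ∀ ζ ∈ goodRoots Ω, ∃ z : {t : P ⟶ T // lift t (lift (w ≫ iU) x ≫ a.act) ≫ (a.restrict iT).act =
      lift (w ≫ iU) x ≫ a.act}, f ζ = Φ ((w ≫ iU)⁻¹ * (z.1 ≫ iT) * (w ≫ iU)) := by
    rintro ζ ⟨n, hn, hζ⟩
    obtain ⟨h, hh, hhf⟩ := hfH ζ
    let g := g₀ * h * g₀⁻¹
    have hgn : g ^ n = 1 := by
      have : h ^ n = 1 := hΦinj (by rw [map_pow, hhf, ← map_pow, hζ, map_one, map_one])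
      rw [conj_pow, this, _root_.mul_one, mul_inv_cancel]
    have hcg : ∀ z : P ⟶ T, Commute g (z ≫ iT) := fun z => by
      rw [hdec z, list_prod_comp, List.map_ofFn]
      refine Commute.list_prod_right _ _ fun y hy => ?_
      obtain ⟨j, rfl⟩ := List.mem_ofFn.1 hy
      obtain ⟨s, hs⟩ := tp_surjective q (z ≫ co j)
      have h1 := hu 0 ζ j s
      rw [hfe, ← hhf, ← map_inv, ← map_mul, ← map_mul] at h1
      show Commute g (((z ≫ co j) ≫ ec j) ≫ iT)
      rw [← hs, Category.assoc]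
      exact hΦinj (((map_mul Φ _ _).trans (Units.ext h1.eq)).trans (map_mul Φ _ _).symm)
    let c := g * ((g ≫ p) ≫ iT)⁻¹
    obtain ⟨m, hm⟩ := hkerp c (by rw [MonObj.mul_comp, GrpObj.inv_comp, hiT, mul_inv_cancel])
    let ψ : (P ⟶ U) →* (P ⟶ G) :=
      { toFun := fun y => y ≫ iU, map_one' := MonObj.one_comp iU, map_mul' := fun y y' => MonObj.mul_comp y y' iU }
    let ψT : (P ⟶ T) →* (P ⟶ G) :=
      { toFun := fun y => y ≫ iT, map_one' := MonObj.one_comp iT, map_mul' := fun y y' => MonObj.mul_comp y y' iT }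
    let ψp : (P ⟶ G) →* (P ⟶ T) :=
      { toFun := fun y => y ≫ p, map_one' := MonObj.one_comp p, map_mul' := fun y y' => MonObj.mul_comp y y' p }
    have hcn : c ^ n = 1 := by
      rw [(hcg (g ≫ p)).inv_right.mul_pow, inv_pow, hgn, show ((g ≫ p) ≫ iT) ^ n = ψT (ψp (g ^ n)) by
        rw [map_pow, map_pow]; rfl, hgn, map_one, map_one, inv_one, _root_.mul_one]
    have hm1 : m = 1 := by
      have hn0 : n ≠ 0 := fun h0 => hn (by rw [h0, Nat.cast_zero])
      refine eq_one_of_pow_eq_one q (fun y hy => pt_eq_one_of_pow_eq_one U hU hn0 y hy) m ?_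
      rw [← cancel_mono iU, MonObj.one_comp]
      show ψ (m ^ n) = 1
      rw [map_pow, show ψ m = c from hm, hcn]
    have hgT : g = (g ≫ p) ≫ iT := by
      rw [hm1, MonObj.one_comp] at hm
      exact mul_inv_eq_one.1 hm.symm
    have hwg : (w ≫ iU) * h * (w ≫ iU)⁻¹ = g := by
      rw [hw, mul_inv_rev, _root_.inv_inv]
      calc (t₀ ≫ iT)⁻¹ * g₀ * h * (g₀⁻¹ * (t₀ ≫ iT)) = (t₀ ≫ iT)⁻¹ * (g * (t₀ ≫ iT)) := by
            simp only [g, _root_.mul_assoc]
        _ = g := by rw [(hcg t₀).eq, inv_mul_cancel_left]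
    refine ⟨⟨g ≫ p, ?_⟩, ?_⟩
    · rw [restrict_act_eq, ← hgT, ← hwg, ← H20GIT.act_mul, inv_mul_cancel_right, H20GIT.act_mul, hh]
    · rw [← hgT, ← hwg, ← hhf]
      simp [_root_.mul_assoc]
  haveI := hfin w
  refine hfinf (Set.Finite.subset (Set.finite_range fun z : {t : P ⟶ T //
    lift t (lift (w ≫ iU) x ≫ a.act) ≫ (a.restrict iT).act = lift (w ≫ iU) x ≫ a.act} =>
      Φ ((w ≫ iU)⁻¹ * (z.1 ≫ iT) * (w ≫ iU))) ?_)
  rintro _ ⟨ζ, hζ, rfl⟩
  obtain ⟨z, hz⟩ := hstep ζ hζ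
  exact ⟨z, hz.symm⟩

end Groth.Agent.H20Semi
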